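import Cfsg.Agent.Lib.InvChar.CosetCert

/-! Coset enumeration certificate J3A5v for a presented sporadic group. -/

set_option autoImplicit false
set_option maxRecDepth 100000

namespace CfsgLib.InvChar.Coset.J3A5v

/-- facts -/
noncomputable def facts : Tr := (.leaf 0x14f0000000013f0002600012f0002500011f0002c00010f0002d00039f0000f00039f0002e0004d10002d00026f0004f0000c10003b0002bf000090002af0004b00029f0004c0003af000420000920004b00027100049000151000480000810001700037f0004600036f000450000710004400028200042000002000260004f10004e0004e00004d0004d20004c0004c00004b0004b10004a0004a0000490004920004800048000047000471000460004600004500045200044000440000430004310000400042000041000412000400004000003f0003f20003e0003e00003d0003d20003c0003c0000350003b00003a0003a1000390003900003800038200037000370000360003610001600035200034000340000330003320003200032000031000312000300003000002f0002f2000050002e20002d0002d00002c0002c1000250002b20002a0002a0000290002910002800028000027000272000020002600002500025200024000240000230002320002200022000021000212000200002000001f0001f20001e0001e00001d0001d20001c0001c00001b0001b20001a0001a0000190001920001800018000017000172000160001600001500015200001000142000130001300001200012100011000110000100001020000f0000f00000e0000e10000d0000d00000c0000c20000b0000b00000a0000a100009000090000080000820000700007000006000061000050000500000400004200003000030000020000210000100001000000)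
/-- justifications -/
noncomputable def just : Tr := (.leaf 0x13c001900004c00020030000002500063000120000000c000000ac001880004400010030000002c00061000100000000c000000b40017c001800003c00020040000000e0000d0000c0005c0003a000394000c010008000b4001780013000164000a00014000160000e400040070010002c0002b000250005d0004e0004d4000c01800000138001340013000164000a00009c0009800004000000013c02050040060003a000580005000028000290002a0005b000090000a0000b004140140140015c00168000a800020030000004b00059000290000000c0000012c0012800124001580009c000a100030030030005000027000560004800047000460005300037000380003940814010018001280012400120001540005400058001500002002050030050004800055000140000100026000100040100011c001180014c000d8000d4000550003004002000160003500052000440005100007000100100080011400148000d800000030000004400043000420000300002000010001400015000354081400c0180010c00108000100001400019000300200300041000400003f0003e0003d0003c0003b00034000330003200031000300002f0002e00004000030000200026000274001804400800094000900008c0008800084000800007c0007800074000700006c0006800064000600005c000580005400050000010006013000)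
/-- relators -/
def rels : List (List ℕ) := [[0, 0], [1, 1], [2, 2], [0, 1, 0, 1, 0, 1], [1, 2, 1, 2, 1, 2], [0, 1, 2, 0, 1, 2, 0, 1, 2], [0, 2, 0, 2, 0, 2, 0, 2, 0, 2, 0, 2, 0, 2, 0, 2, 0, 2, 0, 2], [2, 0, 2, 0, 2, 0, 2, 0, 2, 0, 2, 0, 2, 0, 2, 0, 2, 0, 2, 0], [1, 0, 2, 0, 1, 0, 2, 0, 1, 0, 2, 0, 1, 0, 2, 0, 1, 0, 2, 0, 2, 0, 1, 0, 2, 0, 1, 0, 2, 0, 1, 0, 2, 0, 1, 0, 2, 0, 1, 0], [1, 0, 2, 0, 2, 0, 2, 0, 2, 0, 2, 1, 2, 0, 2, 0, 2, 0, 2, 0, 2, 0], [1, 0, 1, 0, 2, 0, 1, 0, 2, 0, 1, 0, 2, 0, 1, 0, 2, 0, 1, 0, 2, 1, 2, 0, 1, 0, 2, 0, 1, 0, 2, 0, 1, 0, 2, 0, 1, 0, 2, 0, 1, 0], [2, 0, 2, 0, 2, 0, 2, 0, 2, 0, 2, 0, 2, 0, 2, 0, 2, 0, 2, 0], [2, 0, 1, 0, 2, 0, 1, 0, 2, 0, 1, 0, 2, 0, 1, 0, 2, 0, 1, 0, 2, 0, 1, 0, 2, 0, 1, 0, 2, 0, 1, 0, 2, 0, 1, 0, 2, 0, 1, 0], [0, 1, 0, 2, 0, 1, 0, 2, 0, 1, 0, 2, 0, 1, 0, 2, 0, 1, 0, 2, 0, 1, 0, 2, 0, 1, 0, 2, 0, 1, 0, 2, 0, 1, 0, 2, 0, 1, 0, 2]]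
/-- subgroup words -/
def subs : List (List ℕ) := []
/-- the letters, as letters of the whole group -/
def emb : List ℕ := [0, 1, 2]
/-- certificate -/
noncomputable def cert : Cert := ⟨3, 102, 79, facts, just, rels, subs⟩

end CfsgLib.InvChar.Coset.J3A5v
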